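import Mathlib

/-!
# Two elements of order 3 with product of order 3 (helper21)

If `u³ = v³ = (uv)³ = 1` then `x = u v⁻¹`, `y = v⁻¹ u`, `z = u⁻¹ v⁻¹ u⁻¹` satisfy
`xyz = 1 = zyx`, so they commute, and `u` permutes them cyclically.  Hence `⟨u, v⟩ = A ⟨u⟩` with `A`
abelian and normalized by `u`.  If every element commuting with a non-identity element of `C(u)`
commutes with `u`, then either `u` and `v` commute or `u ∼ v` and `uv ∼ u⁻¹`.
-/

set_option autoImplicit false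

namespace Cfsg.Agent.Lib.H21.Tri3

variable {G : Type*} [Group G]

theorem conj_mem_centralizer (T : Set G) (u : G) (hT' : ∀ t ∈ T, u⁻¹ * t * u ∈ T) :
    ∀ g ∈ Subgroup.centralizer T, u * g * u⁻¹ ∈ Subgroup.centralizer T := by
  intro g hg
  rw [Subgroup.mem_centralizer_iff] at hg ⊢
  intro t ht
  have h1 := hg (u⁻¹ * t * u) (hT' t ht)
  calc t * (u * g * u⁻¹) = u * ((u⁻¹ * t * u) * g) * u⁻¹ := by group
    _ = u * (g * (u⁻¹ * t * u)) * u⁻¹ := by rw [h1]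
    _ = u * g * u⁻¹ * t := by group

/-- every element of the coset `A u` is `A`-conjugate to `u` when `C_A(u) = 1` -/
theorem coset_conj (A : Subgroup G) [Finite A] (u : G) (hn : ∀ α ∈ A, u * α * u⁻¹ ∈ A)
    (hfix : ∀ α ∈ A, α * u = u * α → α = 1) (a : G) (ha : a ∈ A) :
    ∃ α ∈ A, α * u * α⁻¹ = a * u := by
  let φ : A → A := fun α => ⟨α.1 * (u * α.1⁻¹ * u⁻¹), A.mul_mem α.2 (hn _ (A.inv_mem α.2))⟩
  have hinj : Function.Injective φ := by
    intro α β hαβ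
    have h1 : α.1 * (u * α.1⁻¹ * u⁻¹) = β.1 * (u * β.1⁻¹ * u⁻¹) := congrArg Subtype.val hαβ
    have h2 : (β.1⁻¹ * α.1) * u = u * (β.1⁻¹ * α.1) := by
      have h3 : β.1⁻¹ * α.1 = u * (β.1⁻¹ * α.1) * u⁻¹ := by
        calc β.1⁻¹ * α.1 = β.1⁻¹ * (α.1 * (u * α.1⁻¹ * u⁻¹)) * (u * α.1 * u⁻¹) := by group
          _ = β.1⁻¹ * (β.1 * (u * β.1⁻¹ * u⁻¹)) * (u * α.1 * u⁻¹) := by rw [h1]
          _ = u * (β.1⁻¹ * α.1) * u⁻¹ := by group
      calc (β.1⁻¹ * α.1) * u = (u * (β.1⁻¹ * α.1) * u⁻¹) * u := by rw [← h3]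
        _ = u * (β.1⁻¹ * α.1) := by group
    have h4 := hfix _ (A.mul_mem (A.inv_mem β.2) α.2) h2
    apply Subtype.ext
    have : α.1 = β.1 * (β.1⁻¹ * α.1) := by group
    rw [this, h4, mul_one]
  have hsurj : Function.Surjective φ := Finite.injective_iff_surjective.mp hinj
  obtain ⟨α, hα⟩ := hsurj ⟨a, ha⟩
  refine ⟨α.1, α.2, ?_⟩
  have h1 : α.1 * (u * α.1⁻¹ * u⁻¹) = a := congrArg Subtype.val hα
  rw [← h1]
  group

theorem tri3 [Finite G] (u v : G) (hu : u ^ 3 = 1) (hv : v ^ 3 = 1) (huv : (u * v) ^ 3 = 1)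
    (hcc : ∀ w : G, w ≠ 1 → w * u = u * w → ∀ g : G, g * w = w * g → g * u = u * g) :
    u * v = v * u ∨ (IsConj u v ∧ IsConj (u * v) u⁻¹) := by
  have hu2 : u * u = u⁻¹ := by
    have : u * u * u = 1 := by rw [← hu, pow_succ, pow_two]
    exact eq_inv_of_mul_eq_one_left this
  have hv3 : v⁻¹ * v⁻¹ * v⁻¹ = 1 := by
    have : v * v * v = 1 := by rw [← hv, pow_succ, pow_two]
    calc v⁻¹ * v⁻¹ * v⁻¹ = (v * v * v)⁻¹ := by group
      _ = 1 := by rw [this, inv_one]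
  have hvu : (u⁻¹ * v⁻¹) * (u⁻¹ * v⁻¹) * (u⁻¹ * v⁻¹) = 1 := by
    have h1 : (u * v) * (u * v) * (u * v) = 1 := by rw [← huv, pow_succ, pow_two]
    calc (u⁻¹ * v⁻¹) * (u⁻¹ * v⁻¹) * (u⁻¹ * v⁻¹)
        = u⁻¹ * ((u * v) * (u * v) * (u * v))⁻¹ * u := by group
      _ = 1 := by rw [h1]; group
  set x := u * v⁻¹ with hx
  set y := v⁻¹ * u with hy
  set z := u⁻¹ * v⁻¹ * u⁻¹ with hz
  have h1 : x * y * z = 1 := by
    calc x * y * z = u * (v⁻¹ * v⁻¹ * v⁻¹) * u⁻¹ := by rw [hx, hy, hz]; group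
      _ = 1 := by rw [hv3]; group
  have h2 : z * y * x = 1 := by
    calc z * y * x = u⁻¹ * v⁻¹ * u⁻¹ * v⁻¹ * (u * u) * v⁻¹ := by rw [hx, hy, hz]; group
      _ = (u⁻¹ * v⁻¹) * (u⁻¹ * v⁻¹) * (u⁻¹ * v⁻¹) := by rw [hu2]; group
      _ = 1 := hvu
  have hz1 : z = (x * y)⁻¹ := eq_inv_of_mul_eq_one_right h1
  have hz2 : z = (y * x)⁻¹ := by
    apply eq_inv_of_mul_eq_one_left
    rw [← h2]; group
  have hxy : x * y = y * x := by
    have := hz1.symm.trans hz2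
    exact inv_injective this
  have hxz : x * z = z * x := by
    rw [hz1]
    calc x * (x * y)⁻¹ = x * (y * x)⁻¹ := by rw [hxy]
      _ = (x * y)⁻¹ * x := by group
  have hyz : y * z = z * y := by
    rw [hz2]
    calc y * (y * x)⁻¹ = y * (x * y)⁻¹ := by rw [hxy]
      _ = (y * x)⁻¹ * y := by group
  have hu2' : u⁻¹ * u⁻¹ = u := by
    have h3 : u * u * u = 1 := by rw [← hu, pow_succ, pow_two]
    calc u⁻¹ * u⁻¹ = u⁻¹ * u⁻¹ * (u * u * u) := by rw [h3, mul_one]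
      _ = u := by group
  -- the action of `u`
  have cxy : u⁻¹ * x * u = y := by rw [hx, hy]; group
  have cyz : u⁻¹ * y * u = z := by
    calc u⁻¹ * y * u = u⁻¹ * v⁻¹ * (u * u) := by rw [hy]; group
      _ = z := by rw [hu2, hz]
  have czx : u⁻¹ * z * u = x := by
    calc u⁻¹ * z * u = (u⁻¹ * u⁻¹) * v⁻¹ := by rw [hz]; group
      _ = x := by rw [hu2', hx]
  have dxz : u * x * u⁻¹ = z := by rw [← czx]; group
  have dyx : u * y * u⁻¹ = x := by rw [← cxy]; group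
  have dzy : u * z * u⁻¹ = y := by rw [← cyz]; group
  set T : Set G := {x, y, z} with hT
  have hTmem : ∀ t, t ∈ T ↔ t = x ∨ t = y ∨ t = z := by
    intro t; rw [hT]; simp
  have hTc : ∀ t ∈ T, u⁻¹ * t * u ∈ T := by
    intro t ht
    rcases (hTmem t).1 ht with rfl | rfl | rfl
    · rw [cxy]; exact (hTmem _).2 (Or.inr (Or.inl rfl))
    · rw [cyz]; exact (hTmem _).2 (Or.inr (Or.inr rfl))
    · rw [czx]; exact (hTmem _).2 (Or.inl rfl)
  have hTd : ∀ t ∈ T, (u⁻¹)⁻¹ * t * u⁻¹ ∈ T := by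
    intro t ht
    rw [inv_inv]
    rcases (hTmem t).1 ht with rfl | rfl | rfl
    · rw [dxz]; exact (hTmem _).2 (Or.inr (Or.inr rfl))
    · rw [dyx]; exact (hTmem _).2 (Or.inl rfl)
    · rw [dzy]; exact (hTmem _).2 (Or.inr (Or.inl rfl))
  have hTcomm : ∀ s ∈ T, ∀ t ∈ T, s * t = t * s := by
    intro s hs t ht
    rcases (hTmem s).1 hs with rfl | rfl | rfl <;> rcases (hTmem t).1 ht with rfl | rfl | rfl
    · rfl
    · exact hxy
    · exact hxz
    · exact hxy.symm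
    · rfl
    · exact hyz
    · exact hxz.symm
    · exact hyz.symm
    · rfl
  set C : Subgroup G := Subgroup.centralizer T with hC
  set A : Subgroup G := Subgroup.centralizer (C : Set G) with hA
  have hTA : ∀ t ∈ T, t ∈ A := by
    intro t ht
    rw [hA, Subgroup.mem_centralizer_iff]
    intro g hg
    rw [SetLike.mem_coe, hC, Subgroup.mem_centralizer_iff] at hg
    exact (hg t ht).symm
  have hTC : ∀ t ∈ T, t ∈ C := by
    intro t ht
    rw [hC, Subgroup.mem_centralizer_iff]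
    intro s hs
    exact hTcomm s hs t ht
  have hAC : ∀ a ∈ A, a ∈ C := by
    intro a ha
    rw [hC, Subgroup.mem_centralizer_iff]
    intro t ht
    rw [hA, Subgroup.mem_centralizer_iff] at ha
    exact ha t (hTC t ht)
  have hAcomm : ∀ a ∈ A, ∀ b ∈ A, a * b = b * a := by
    intro a ha b hb
    rw [hA, Subgroup.mem_centralizer_iff] at hb
    exact hb a (hAC a ha)
  -- invariance
  have hCd : ∀ g ∈ (C : Set G), u * g * u⁻¹ ∈ (C : Set G) := by
    intro g hg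
    exact conj_mem_centralizer T u hTc g hg
  have hCc : ∀ g ∈ (C : Set G), u⁻¹ * g * (u⁻¹)⁻¹ ∈ (C : Set G) := by
    intro g hg
    exact conj_mem_centralizer T u⁻¹ hTd g hg
  have hAd : ∀ α ∈ A, u * α * u⁻¹ ∈ A := by
    intro α hα
    refine conj_mem_centralizer (C : Set G) u ?_ α hα
    intro g hg
    have := hCc g hg
    rwa [inv_inv] at this
  have hAc : ∀ α ∈ A, u⁻¹ * α * (u⁻¹)⁻¹ ∈ A := by
    intro α hα
    refine conj_mem_centralizer (C : Set G) u⁻¹ ?_ α hα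
    intro g hg
    rw [inv_inv]
    exact hCd g hg
  have hxA : x ∈ A := hTA x ((hTmem x).2 (Or.inl rfl))
  have hvx : v = x⁻¹ * u := by rw [hx]; group
  by_cases hfix : ∃ α ∈ A, α ≠ 1 ∧ α * u = u * α
  · left
    obtain ⟨α, hαA, hα1, hαu⟩ := hfix
    have h3 : x * u = u * x := hcc α hα1 hαu x (hAcomm x hxA α hαA)
    rw [hvx]
    calc u * (x⁻¹ * u) = x⁻¹ * (x * u) * x⁻¹ * u := by group
      _ = x⁻¹ * (u * x) * x⁻¹ * u := by rw [h3]
      _ = x⁻¹ * u * u := by group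
  · right
    push Not at hfix
    have hfix1 : ∀ α ∈ A, α * u = u * α → α = 1 := by
      intro α hα hαu
      by_contra hne
      exact hfix α hα hne hαu
    have hfix2 : ∀ α ∈ A, α * u⁻¹ = u⁻¹ * α → α = 1 := by
      intro α hα hαu
      apply hfix1 α hα
      calc α * u = u * (u⁻¹ * α) * u := by group
        _ = u * (α * u⁻¹) * u := by rw [hαu]
        _ = u * α := by group
    constructor
    · obtain ⟨α, -, hα⟩ := coset_conj A u hAd hfix1 x⁻¹ (A.inv_mem hxA)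
      rw [isConj_iff]
      exact ⟨α, by rw [hα, hvx]⟩
    · have hw : u * x⁻¹ * u⁻¹ ∈ A := hAd _ (A.inv_mem hxA)
      obtain ⟨β, -, hβ⟩ := coset_conj A u⁻¹ hAc hfix2 (u * x⁻¹ * u⁻¹) hw
      rw [isConj_comm, isConj_iff]
      refine ⟨β, ?_⟩
      rw [hβ, hvx]
      calc u * x⁻¹ * u⁻¹ * u⁻¹ = u * x⁻¹ * (u⁻¹ * u⁻¹) := by group
        _ = u * (x⁻¹ * u) := by rw [hu2']; group

end Cfsg.Agent.Lib.H21.Tri3
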