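import Mathlib

/-!
# S3341: the arithmetic (helper21)
-/

set_option autoImplicit false

namespace Cfsg.Agent.Lib.H21.A6

/-- the case `e = 2` -/
theorem arith2 (d X : ℕ) (δ ε : ℤ) (hδ : δ = 1 ∨ δ = -1) (hε : ε = 1 ∨ ε = -1) (hd : 1 ≤ d)
    (hX : 0 < X) (hdeg : 1 + δ * d = ε * X)
    (hcount : (0 : ℚ) = 1 + (δ : ℚ) / d - 4 * (ε : ℚ) / X) : d = 1 := by
  have hdq : (0 : ℚ) < d := by exact_mod_cast hd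
  have hXq : (0 : ℚ) < X := by exact_mod_cast hX
  rcases hδ with rfl | rfl <;> rcases hε with rfl | rfl
  · have hXe : X = 1 + d := by omega
    subst hXe
    push_cast at hcount
    have h1d : (0 : ℚ) < 1 + d := by linarith
    field_simp at hcount
    have h2 : ((d : ℚ) - 1) ^ 2 = 0 := by nlinarith
    have h3 : (d : ℚ) - 1 = 0 := by
      exact pow_eq_zero_iff (two_ne_zero) |>.1 h2
    have h4 : (d : ℚ) = 1 := by linarith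
    exact_mod_cast h4
  · omega
  · omega
  · exfalso
    have hXe : (X : ℤ) = d - 1 := by omega
    have hd2 : 2 ≤ d := by omega
    have hdq2 : (2 : ℚ) ≤ d := by exact_mod_cast hd2
    push_cast at hcount
    have h1 : (1 : ℚ) / d ≤ 1 / 2 := one_div_le_one_div_of_le (by norm_num) hdq2
    have h2 : (0 : ℚ) < 4 / X := by positivity
    have h3 : (-1 : ℚ) / d = -(1 / d) := by ring
    have h4 : (4 : ℚ) * (-1) / X = -(4 / X) := by ring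
    rw [h3, h4] at hcount
    linarith

theorem sign_div_ge (δ : ℤ) (d : ℕ) (hδ : δ = 1 ∨ δ = -1) (h8 : 8 ≤ d) :
    (-1 / 8 : ℚ) ≤ (δ : ℚ) / d := by
  have hdq : (8 : ℚ) ≤ d := by exact_mod_cast h8
  have hpos : (0 : ℚ) < d := by linarith
  rcases hδ with rfl | rfl
  · have : (0 : ℚ) ≤ ((1 : ℤ) : ℚ) / d := by positivity
    linarith
  · have h1 : (1 : ℚ) / d ≤ 1 / 8 := one_div_le_one_div_of_le (by norm_num) hdq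
    have h2 : (((-1 : ℤ) : ℚ)) / d = -(1 / d) := by push_cast; ring
    rw [h2]
    linarith

/-- the case `e = 4`: the only solution is `|G| = 360` -/
theorem arith4 (g d₁ d₂ d₃ X : ℕ) (δ₁ δ₂ δ₃ ε : ℤ)
    (hδ₁ : δ₁ = 1 ∨ δ₁ = -1) (hδ₂ : δ₂ = 1 ∨ δ₂ = -1) (hδ₃ : δ₃ = 1 ∨ δ₃ = -1)
    (hε : ε = 1 ∨ ε = -1)
    (hd₁ : ∃ m : ℤ, (d₁ : ℤ) = δ₁ + 9 * m) (hd₂ : ∃ m : ℤ, (d₂ : ℤ) = δ₂ + 9 * m)
    (hd₃ : ∃ m : ℤ, (d₃ : ℤ) = δ₃ + 9 * m)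
    (h2₁ : 2 ≤ d₁) (h2₂ : 2 ≤ d₂) (h2₃ : 2 ≤ d₃)
    (hXc : ∃ m : ℤ, (X : ℤ) = 4 * ε + 9 * m) (hX : 0 < X)
    (hdeg : 1 + δ₁ * d₁ + δ₂ * d₂ + δ₃ * d₃ = ε * X)
    (hcount : (162 : ℚ) = g * (1 + (δ₁ : ℚ) / d₁ + (δ₂ : ℚ) / d₂ + (δ₃ : ℚ) / d₃ + 2 * (ε : ℚ) / X))
    (hsq : 1 + d₁ ^ 2 + d₂ ^ 2 + d₃ ^ 2 + 2 * X ^ 2 ≤ g) : g = 360 := by
  obtain ⟨m₁, hm₁⟩ := hd₁
  obtain ⟨m₂, hm₂⟩ := hd₂
  obtain ⟨m₃, hm₃⟩ := hd₃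
  obtain ⟨mX, hmX⟩ := hXc
  have h8₁ : 8 ≤ d₁ := by rcases hδ₁ with rfl | rfl <;> omega
  have h8₂ : 8 ≤ d₂ := by rcases hδ₂ with rfl | rfl <;> omega
  have h8₃ : 8 ≤ d₃ := by rcases hδ₃ with rfl | rfl <;> omega
  have hX4 : 4 ≤ X := by rcases hε with rfl | rfl <;> omega
  have hd₁q : (0 : ℚ) < d₁ := by exact_mod_cast (by omega : 0 < d₁)
  have hd₂q : (0 : ℚ) < d₂ := by exact_mod_cast (by omega : 0 < d₂)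
  have hd₃q : (0 : ℚ) < d₃ := by exact_mod_cast (by omega : 0 < d₃)
  have hXq : (0 : ℚ) < X := by exact_mod_cast hX
  -- the integer form of the counting equation
  have hcountZ : (162 : ℤ) * (d₁ * d₂ * d₃ * X) = g * (d₁ * d₂ * d₃ * X + δ₁ * d₂ * d₃ * X +
      δ₂ * d₁ * d₃ * X + δ₃ * d₁ * d₂ * X + 2 * ε * d₁ * d₂ * d₃) := by
    have : ((((162 : ℤ) * (d₁ * d₂ * d₃ * X) : ℤ)) : ℚ) = (((g * (d₁ * d₂ * d₃ * X +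
      δ₁ * d₂ * d₃ * X + δ₂ * d₁ * d₃ * X + δ₃ * d₁ * d₂ * X + 2 * ε * d₁ * d₂ * d₃) : ℤ)) : ℚ) := by
      push_cast
      rw [hcount]
      field_simp
    exact_mod_cast this
  -- the bound `g ≤ 720`
  have hb₁ := sign_div_ge δ₁ d₁ hδ₁ h8₁
  have hb₂ := sign_div_ge δ₂ d₂ hδ₂ h8₂
  have hb₃ := sign_div_ge δ₃ d₃ hδ₃ h8₃
  have hbX : (-2 / 5 : ℚ) ≤ 2 * (ε : ℚ) / X := by
    rcases hε with rfl | rfl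
    · have : (0 : ℚ) ≤ 2 * ((1 : ℤ) : ℚ) / X := by positivity
      linarith
    · have h5 : 5 ≤ X := by omega
      have h5q : (5 : ℚ) ≤ X := by exact_mod_cast h5
      have h1 : (1 : ℚ) / X ≤ 1 / 5 := one_div_le_one_div_of_le (by norm_num) h5q
      have h2 : 2 * (((-1 : ℤ) : ℚ)) / X = -(2 * (1 / X)) := by push_cast; ring
      rw [h2]
      linarith
  have hg720 : g ≤ 720 := by
    have hgq : (0 : ℚ) ≤ g := by positivity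
    have hD : (9 / 40 : ℚ) ≤ 1 + (δ₁ : ℚ) / d₁ + (δ₂ : ℚ) / d₂ + (δ₃ : ℚ) / d₃ + 2 * (ε : ℚ) / X := by
      linarith
    have h1 : (g : ℚ) * (9 / 40) ≤ 162 := by
      rw [hcount]
      exact mul_le_mul_of_nonneg_left hD hgq
    have h2 : (g : ℚ) ≤ 720 := by linarith
    exact_mod_cast h2
  have hd₁26 : d₁ ≤ 26 := by
    by_contra hcon
    have : 27 * 27 ≤ d₁ * d₁ := Nat.mul_le_mul (by omega) (by omega)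
    nlinarith
  have hd₂26 : d₂ ≤ 26 := by
    by_contra hcon
    have : 27 * 27 ≤ d₂ * d₂ := Nat.mul_le_mul (by omega) (by omega)
    nlinarith
  have hd₃26 : d₃ ≤ 26 := by
    by_contra hcon
    have : 27 * 27 ≤ d₃ * d₃ := Nat.mul_le_mul (by omega) (by omega)
    nlinarith
  have hX18 : X ≤ 18 := by
    by_contra hcon
    have : 19 * 19 ≤ X * X := Nat.mul_le_mul (by omega) (by omega)
    nlinarith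
  clear hcount hb₁ hb₂ hb₃ hbX hd₁q hd₂q hd₃q hXq
  have hc₁ : (d₁ = 8 ∧ δ₁ = -1) ∨ (d₁ = 10 ∧ δ₁ = 1) ∨ (d₁ = 17 ∧ δ₁ = -1) ∨ (d₁ = 19 ∧ δ₁ = 1) ∨
      (d₁ = 26 ∧ δ₁ = -1) := by rcases hδ₁ with rfl | rfl <;> omega
  have hc₂ : (d₂ = 8 ∧ δ₂ = -1) ∨ (d₂ = 10 ∧ δ₂ = 1) ∨ (d₂ = 17 ∧ δ₂ = -1) ∨ (d₂ = 19 ∧ δ₂ = 1) ∨
      (d₂ = 26 ∧ δ₂ = -1) := by rcases hδ₂ with rfl | rfl <;> omega
  have hc₃ : (d₃ = 8 ∧ δ₃ = -1) ∨ (d₃ = 10 ∧ δ₃ = 1) ∨ (d₃ = 17 ∧ δ₃ = -1) ∨ (d₃ = 19 ∧ δ₃ = 1) ∨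
      (d₃ = 26 ∧ δ₃ = -1) := by rcases hδ₃ with rfl | rfl <;> omega
  have hcX : (X = 4 ∧ ε = 1) ∨ (X = 13 ∧ ε = 1) ∨ (X = 5 ∧ ε = -1) ∨ (X = 14 ∧ ε = -1) := by
    rcases hε with rfl | rfl <;> omega
  clear hm₁ hm₂ hm₃ hmX hδ₁ hδ₂ hδ₃ hε h8₁ h8₂ h8₃ h2₁ h2₂ h2₃ hX4 hX hd₁26 hd₂26 hd₃26 hX18
  rcases hc₁ with ⟨rfl, rfl⟩ | ⟨rfl, rfl⟩ | ⟨rfl, rfl⟩ | ⟨rfl, rfl⟩ | ⟨rfl, rfl⟩ <;>
  rcases hc₂ with ⟨rfl, rfl⟩ | ⟨rfl, rfl⟩ | ⟨rfl, rfl⟩ | ⟨rfl, rfl⟩ | ⟨rfl, rfl⟩ <;>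
  rcases hc₃ with ⟨rfl, rfl⟩ | ⟨rfl, rfl⟩ | ⟨rfl, rfl⟩ | ⟨rfl, rfl⟩ | ⟨rfl, rfl⟩ <;>
  rcases hcX with ⟨rfl, rfl⟩ | ⟨rfl, rfl⟩ | ⟨rfl, rfl⟩ | ⟨rfl, rfl⟩ <;>
  first
  | (exfalso; omega)
  | (norm_num at hcountZ hsq hdeg ⊢; omega)

end Cfsg.Agent.Lib.H21.A6
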