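import Cfsg.Agent.Lib.H4.A6C2
import Cfsg.Agent.Lib.H23.ClassProduct

/-!
# S3341: assembly, part A (helper21): splitting the class-multiplication sums
-/

set_option autoImplicit false
set_option linter.unusedSectionVars false

namespace Cfsg.Agent.Lib.H21.A6

open Cfsg Cfsg.Agent.Lib.L0 Cfsg.Agent.Lib.L0.FrobTI Cfsg.Agent.Lib.H8 Cfsg.Agent.Lib.H4.Feit
open scoped ComplexConjugate Classical

/-- a sum of integer squares equal to `n ≤ 3`: the non-zero terms are `±1` and there are `n` of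
them -/
theorem sq_sum_small {ι : Type*} (R : Finset ι) (b : ι → ℤ) (n : ℕ) (hn : n ≤ 3)
    (h : ∑ i ∈ R, b i ^ 2 = n) :
    (∀ i ∈ R, b i = 0 ∨ b i = 1 ∨ b i = -1) ∧ (R.filter (fun i => b i ≠ 0)).card = n := by
  have h1 : ∀ i ∈ R, b i = 0 ∨ b i = 1 ∨ b i = -1 := by
    intro i hi
    have h2 : b i ^ 2 ≤ ∑ j ∈ R, b j ^ 2 :=
      Finset.single_le_sum (f := fun j => b j ^ 2) (fun j _ => sq_nonneg (b j)) hi
    rw [h] at h2
    have h3 : b i ^ 2 ≤ 3 := by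
      have : (n : ℤ) ≤ 3 := by exact_mod_cast hn
      linarith
    have h4 : b i ≤ 1 := by nlinarith
    have h5 : -1 ≤ b i := by nlinarith
    omega
  refine ⟨h1, ?_⟩
  have h2 : ∑ i ∈ R, b i ^ 2 = ∑ i ∈ R, (if b i ≠ 0 then (1 : ℤ) else 0) := by
    refine Finset.sum_congr rfl fun i hi => ?_
    rcases h1 i hi with h3 | h3 | h3 <;> rw [h3] <;> norm_num
  rw [h2, Finset.sum_ite, Finset.sum_const_zero, add_zero, Finset.sum_const, nsmul_eq_mul,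
    mul_one] at h
  exact_mod_cast h

section chars

variable {G : Type*} [Group G] [Fintype G] {K : Subgroup G} [Fintype (nz K)]

/-- the class-multiplication sum of `G` at three non-identity elements of `K` -/
theorem gsum [Fintype (IrrCharacter G)] [Fintype (RelT K)]
    (εz c : ℤ) (X : ℕ) (b : IrrCharacter G → ℤ) (d : IrrCharacter G → ℕ)
    (f : RelT K → IrrCharacter G) (hinj : Function.Injective f)
    (hd : ∀ ψ : IrrCharacter G, (ψ : G → ℂ) 1 = d ψ)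
    (hX : ∀ ζ : RelT K, d (f ζ) = X)
    (hv1 : ∀ ψ : IrrCharacter G, (∀ ζ : RelT K, f ζ ≠ ψ) → ∀ k ∈ K, k ≠ 1 →
      (ψ : G → ℂ) k = (b ψ : ℂ))
    (hv2 : ∀ ζ : RelT K, ∀ k : nz K, (k : G) ∈ K → k ≠ 1 →
      (f ζ : G → ℂ) k = (c : ℂ) + (εz : ℂ) * (ζ.1 : nz K → ℂ) k)
    (x y u : nz K) (hx : (x : G) ∈ K) (hx1 : x ≠ 1) (hy : (y : G) ∈ K) (hy1 : y ≠ 1)
    (hu : (u : G) ∈ K) (hu1 : u ≠ 1) :
    ∑ ψ : IrrCharacter G, (ψ : G → ℂ) x * (ψ : G → ℂ) y * (ψ : G → ℂ) u / (ψ : G → ℂ) 1 =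
      ∑ ψ ∈ (Finset.univ.image f)ᶜ, (b ψ : ℂ) ^ 3 / (d ψ : ℂ) +
      (∑ ζ : RelT K, ((c : ℂ) + (εz : ℂ) * (ζ.1 : nz K → ℂ) x) *
        ((c : ℂ) + (εz : ℂ) * (ζ.1 : nz K → ℂ) y) *
        ((c : ℂ) + (εz : ℂ) * (ζ.1 : nz K → ℂ) u)) / (X : ℂ) := by
  have hx1' : (x : G) ≠ 1 := fun h => hx1 (Subtype.ext h)
  have hy1' : (y : G) ≠ 1 := fun h => hy1 (Subtype.ext h)
  have hu1' : (u : G) ≠ 1 := fun h => hu1 (Subtype.ext h)
  rw [← Finset.sum_add_sum_compl (Finset.univ.image f), add_comm]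
  congr 1
  · refine Finset.sum_congr rfl fun ψ hψ => ?_
    have hψ' : ∀ ζ : RelT K, f ζ ≠ ψ := by
      intro ζ hζ
      rw [Finset.mem_compl, Finset.mem_image] at hψ
      exact hψ ⟨ζ, Finset.mem_univ _, hζ⟩
    rw [hv1 ψ hψ' x hx hx1', hv1 ψ hψ' y hy hy1', hv1 ψ hψ' u hu hu1', hd]
    ring
  · rw [Finset.sum_image (fun a _ b _ hab => hinj hab), Finset.sum_div]
    refine Finset.sum_congr rfl fun ζ _ => ?_
    rw [hv2 ζ x hx hx1, hv2 ζ y hy hy1, hv2 ζ u hu hu1, hd, hX]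

/-- the exceptional part when `c = 0` -/
theorem wsum_zero [Fintype (RelT K)] (εz : ℤ) (hε : εz = 1 ∨ εz = -1) (x y u : nz K) :
    (∑ ζ : RelT K, (((0 : ℤ) : ℂ) + (εz : ℂ) * (ζ.1 : nz K → ℂ) x) *
        (((0 : ℤ) : ℂ) + (εz : ℂ) * (ζ.1 : nz K → ℂ) y) *
        (((0 : ℤ) : ℂ) + (εz : ℂ) * (ζ.1 : nz K → ℂ) u)) =
      (εz : ℂ) * ∑ ζ : RelT K, (ζ.1 : nz K → ℂ) x * (ζ.1 : nz K → ℂ) y * (ζ.1 : nz K → ℂ) u := by
  rw [Finset.mul_sum]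
  refine Finset.sum_congr rfl fun ζ _ => ?_
  rcases hε with rfl | rfl <;> push_cast <;> ring

/-- the exceptional part when `c = ε` and there are two relevant characters -/
theorem wsum_eps (h : FrobTI K) (hab : ∀ a ∈ K, ∀ b ∈ K, a * b = b * a) [Fintype (RelT K)]
    (ht : Fintype.card (RelT K) = 2) (εz : ℤ) (hε : εz = 1 ∨ εz = -1) (x y u : nz K)
    (hx : (x : G) ∈ K) (hx1 : x ≠ 1) (hy : (y : G) ∈ K) (hy1 : y ≠ 1)
    (hu : (u : G) ∈ K) (hu1 : u ≠ 1) :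
    (∑ ζ : RelT K, ((εz : ℂ) + (εz : ℂ) * (ζ.1 : nz K → ℂ) x) *
        ((εz : ℂ) + (εz : ℂ) * (ζ.1 : nz K → ℂ) y) *
        ((εz : ℂ) + (εz : ℂ) * (ζ.1 : nz K → ℂ) u)) =
      -(εz : ℂ) * ∑ ζ : RelT K, (ζ.1 : nz K → ℂ) x * (ζ.1 : nz K → ℂ) y * (ζ.1 : nz K → ℂ) u := by
  have ht' : (Finset.univ : Finset (RelT K)).card = 2 := by rw [Finset.card_univ]; exact ht
  obtain ⟨ζ₁, ζ₂, hne, huniv'⟩ := Finset.card_eq_two.1 ht'
  have hsx := Cfsg.Agent.Lib.H4.A6.sum_rel_apply h hab x hx hx1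
  have hsy := Cfsg.Agent.Lib.H4.A6.sum_rel_apply h hab y hy hy1
  have hsu := Cfsg.Agent.Lib.H4.A6.sum_rel_apply h hab u hu hu1
  rw [huniv', Finset.sum_pair hne] at hsx hsy hsu ⊢
  rw [Finset.sum_pair hne]
  have e3 : (εz : ℂ) ^ 3 = εz := by
    rcases hε with rfl | rfl <;> norm_num
  have ax : (ζ₂.1 : nz K → ℂ) x = -1 - (ζ₁.1 : nz K → ℂ) x := by linear_combination hsx
  have ay : (ζ₂.1 : nz K → ℂ) y = -1 - (ζ₁.1 : nz K → ℂ) y := by linear_combination hsy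
  have au : (ζ₂.1 : nz K → ℂ) u = -1 - (ζ₁.1 : nz K → ℂ) u := by linear_combination hsu
  rw [ax, ay, au]
  linear_combination ((1 + (ζ₁.1 : nz K → ℂ) x) * (1 + (ζ₁.1 : nz K → ℂ) y) * (1 + (ζ₁.1 : nz K → ℂ) u) - (ζ₁.1 : nz K → ℂ) x * (ζ₁.1 : nz K → ℂ) y * (ζ₁.1 : nz K → ℂ) u) * e3

/-- the class-multiplication count inside `N` -/
theorem nsum (h : FrobTI K) (hab : ∀ a ∈ K, ∀ b ∈ K, a * b = b * a) [Fintype (RelT K)]
    (x y u : nz K) (hx : (x : G) ∈ K) (hy : (y : G) ∈ K) (hu : (u : G) ∈ K) :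
    (∑ s : nz K, ∑ t : nz K, if (s * x * s⁻¹) * (t * y * t⁻¹) = u then (1 : ℂ) else 0) =
      (Nat.card (nz K) : ℂ) * (((K.subgroupOf (nz K)).index : ℂ) +
        (∑ ζ : RelT K, (ζ.1 : nz K → ℂ) x * (ζ.1 : nz K → ℂ) y * (ζ.1 : nz K → ℂ) u⁻¹) /
          ((K.subgroupOf (nz K)).index : ℂ)) := by
  have : Fintype (IrrCharacter (nz K)) := Fintype.ofFinite _
  rw [Cfsg.Agent.Lib.H23.sum_sum_ite_conj_mul_eq x y u,
    Cfsg.Agent.Lib.H4.A6.sum_irr_nz h hab x y u⁻¹ hx hy (by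
      rw [Subgroup.coe_inv]; exact K.inv_mem hu)]

end chars

end Cfsg.Agent.Lib.H21.A6
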