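import Mathlib

/-!
# S3341: counting the solutions of `x^s x^t = z` (helper21)
-/

set_option autoImplicit false

namespace Cfsg.Agent.Lib.H21.A6

variable {H : Type*} [Group H] [Fintype H] [DecidableEq H]

/-- the fibre of `s ↦ s x s⁻¹` over a conjugate of `x` has the size of the fibre over `x` -/
theorem card_fibre_conj (x n : H) :
    (Finset.univ.filter (fun s : H => s * x * s⁻¹ = n * x * n⁻¹)).card =
      (Finset.univ.filter (fun s : H => s * x * s⁻¹ = x)).card := by
  refine Finset.card_bij (fun s _ => n⁻¹ * s) ?_ ?_ ?_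
  · intro s hs
    rw [Finset.mem_filter] at hs ⊢
    refine ⟨Finset.mem_univ _, ?_⟩
    calc n⁻¹ * s * x * (n⁻¹ * s)⁻¹ = n⁻¹ * (s * x * s⁻¹) * n := by group
      _ = n⁻¹ * (n * x * n⁻¹) * n := by rw [hs.2]
      _ = x := by group
  · intro s _ t _ hst
    exact mul_left_cancel hst
  · intro t ht
    rw [Finset.mem_filter] at ht
    refine ⟨n * t, ?_, by group⟩
    rw [Finset.mem_filter]
    refine ⟨Finset.mem_univ _, ?_⟩
    calc n * t * x * (n * t)⁻¹ = n * (t * x * t⁻¹) * n⁻¹ := by group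
      _ = n * x * n⁻¹ := by rw [ht.2]

/-- if the solutions of `x^s x^t = z` are exactly `(x, y)` and `(y, x)` with `y = x^n ≠ x`, their
number is `2 |C(x)|²` -/
theorem count_two (x y z n : H) (hy : y = n * x * n⁻¹) (hyx : y ≠ x) (m : ℕ)
    (hC : (Finset.univ.filter (fun s : H => s * x * s⁻¹ = x)).card = m)
    (hiff : ∀ s t : H, (s * x * s⁻¹) * (t * x * t⁻¹) = z ↔
      (s * x * s⁻¹ = x ∧ t * x * t⁻¹ = y) ∨ (s * x * s⁻¹ = y ∧ t * x * t⁻¹ = x)) :
    (∑ s : H, ∑ t : H, if (s * x * s⁻¹) * (t * x * t⁻¹) = z then (1 : ℂ) else 0) =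
      2 * (m : ℂ) ^ 2 := by
  have hCy : (Finset.univ.filter (fun s : H => s * x * s⁻¹ = y)).card = m := by
    rw [hy, card_fibre_conj, hC]
  set Fx := Finset.univ.filter (fun s : H => s * x * s⁻¹ = x) with hFx
  set Fy := Finset.univ.filter (fun s : H => s * x * s⁻¹ = y) with hFy
  have hterm : ∀ s t : H, (if (s * x * s⁻¹) * (t * x * t⁻¹) = z then (1 : ℂ) else 0) =
      (if s ∈ Fx then 1 else 0) * (if t ∈ Fy then 1 else 0) +
      (if s ∈ Fy then 1 else 0) * (if t ∈ Fx then 1 else 0) := by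
    intro s t
    simp only [hFx, hFy, Finset.mem_filter, Finset.mem_univ, true_and]
    by_cases h1 : s * x * s⁻¹ = x
    · by_cases h2 : t * x * t⁻¹ = y
      · have h3 : ¬ s * x * s⁻¹ = y := by rw [h1]; exact fun h => hyx h.symm
        rw [if_pos ((hiff s t).2 (Or.inl ⟨h1, h2⟩)), if_pos h1, if_pos h2, if_neg h3]
        norm_num
      · have h3 : ¬ s * x * s⁻¹ = y := by rw [h1]; exact fun h => hyx h.symm
        have h4 : ¬ (s * x * s⁻¹) * (t * x * t⁻¹) = z := by
          intro h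
          rcases (hiff s t).1 h with ⟨_, h5⟩ | ⟨h5, _⟩
          · exact h2 h5
          · exact h3 h5
        rw [if_neg h4, if_pos h1, if_neg h2, if_neg h3]
        norm_num
    · by_cases h2 : s * x * s⁻¹ = y
      · by_cases h3 : t * x * t⁻¹ = x
        · rw [if_pos ((hiff s t).2 (Or.inr ⟨h2, h3⟩)), if_neg h1, if_pos h2, if_pos h3]
          norm_num
        · have h4 : ¬ (s * x * s⁻¹) * (t * x * t⁻¹) = z := by
            intro h
            rcases (hiff s t).1 h with ⟨h5, _⟩ | ⟨_, h5⟩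
            · exact h1 h5
            · exact h3 h5
          rw [if_neg h4, if_neg h1, if_pos h2, if_neg h3]
          norm_num
      · have h4 : ¬ (s * x * s⁻¹) * (t * x * t⁻¹) = z := by
          intro h
          rcases (hiff s t).1 h with ⟨h5, _⟩ | ⟨h5, _⟩
          · exact h1 h5
          · exact h2 h5
        rw [if_neg h4, if_neg h1, if_neg h2]
        norm_num
  simp only [hterm]
  simp only [Finset.sum_add_distrib, ← Finset.mul_sum, ← Finset.sum_mul]
  have hsx : (∑ s : H, if s ∈ Fx then (1 : ℂ) else 0) = m := by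
    rw [Finset.sum_ite_mem, Finset.univ_inter, Finset.sum_const, hC]
    simp
  have hsy : (∑ s : H, if s ∈ Fy then (1 : ℂ) else 0) = m := by
    rw [Finset.sum_ite_mem, Finset.univ_inter, Finset.sum_const, hCy]
    simp
  rw [hsx, hsy]
  ring

/-- no solutions -/
theorem count_zero (x z : H)
    (hno : ∀ s t : H, (s * x * s⁻¹) * (t * x * t⁻¹) ≠ z) :
    (∑ s : H, ∑ t : H, if (s * x * s⁻¹) * (t * x * t⁻¹) = z then (1 : ℂ) else 0) = 0 := by
  apply Finset.sum_eq_zero
  intro s _
  apply Finset.sum_eq_zero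
  intro t _
  rw [if_neg (hno s t)]

end Cfsg.Agent.Lib.H21.A6
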