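import Mathlib

/-!
# The hypotheses of S3341 on the Sylow 3-subgroup (helper21)
-/

set_option autoImplicit false

namespace Cfsg.Agent.Lib.H21.A6

variable {G : Type*} [Group G]

/-- the hypotheses of S3341 on `S` (`syl` comes from Sylow's theorem) -/
structure Hyp (S : Subgroup G) : Prop where
  comm : ∀ a ∈ S, ∀ b ∈ S, a * b = b * a
  exp : ∀ a ∈ S, a ^ 3 = 1
  card : Nat.card S = 9
  cent : ∀ s ∈ S, s ≠ 1 → Subgroup.centralizer ({s} : Set G) = S
  syl : ∀ g : G, g ^ 3 = 1 → ∃ c : G, c * g * c⁻¹ ∈ S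

end Cfsg.Agent.Lib.H21.A6
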