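import Cfsg.Agent.Lib.L0.FrobTI
import Cfsg.Agent.Lib.H21.A6.Tri3
import Cfsg.Agent.Lib.H21.A6.Hyp

/-!
# S3341: basic group theory from `Hyp S` (helper21)
-/

set_option autoImplicit false

namespace Cfsg.Agent.Lib.H21.A6

open Cfsg Cfsg.Agent.Lib.L0

variable {G : Type*} [Group G] {S : Subgroup G}

theorem Hyp.conj_mem_of_commute (h : Hyp S) {s w : G} (hs : s ∈ S) (hs1 : s ≠ 1)
    (hw : w * s = s * w) : w ∈ S := by
  rw [← h.cent s hs hs1, Subgroup.mem_centralizer_singleton_iff]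
  exact hw

theorem frobTI (h : Hyp S) : FrobTI S := by
  refine ⟨?_, ?_⟩
  · intro g hg k hk hgk
    by_contra hk1
    apply hg
    have hk' : g * k * g⁻¹ ≠ 1 := fun h1 => hk1 (conj_eq_one_iff.1 h1)
    rw [Subgroup.mem_normalizer_iff]
    intro s
    constructor
    · intro hs
      apply h.conj_mem_of_commute hgk hk'
      have := h.comm s hs k hk
      calc g * s * g⁻¹ * (g * k * g⁻¹) = g * (s * k) * g⁻¹ := by group
        _ = g * (k * s) * g⁻¹ := by rw [this]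
        _ = g * k * g⁻¹ * (g * s * g⁻¹) := by group
    · intro hs
      apply h.conj_mem_of_commute hk hk1
      have := h.comm _ hs _ hgk
      calc s * k = g⁻¹ * (g * s * g⁻¹ * (g * k * g⁻¹)) * g := by group
        _ = g⁻¹ * (g * k * g⁻¹ * (g * s * g⁻¹)) * g := by rw [this]
        _ = k * s := by group
  · intro k hk hk1
    rw [h.cent k hk hk1]

theorem tri [Finite G] (h : Hyp S) (u v : G) (hu : u ^ 3 = 1) (hv : v ^ 3 = 1)
    (huv : (u * v) ^ 3 = 1) :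
    u * v = v * u ∨ (IsConj u v ∧ IsConj (u * v) u⁻¹) := by
  apply Tri3.tri3 u v hu hv huv
  intro w hw1 hwu g hgw
  by_cases hu1 : u = 1
  · rw [hu1, mul_one, one_mul]
  obtain ⟨c, hs⟩ := h.syl u hu
  have hs1 : c * u * c⁻¹ ≠ 1 := fun h1 => hu1 (conj_eq_one_iff.1 h1)
  have hw : c * w * c⁻¹ ∈ S := by
    apply h.conj_mem_of_commute hs hs1
    calc c * w * c⁻¹ * (c * u * c⁻¹) = c * (w * u) * c⁻¹ := by group
      _ = c * (u * w) * c⁻¹ := by rw [hwu]
      _ = c * u * c⁻¹ * (c * w * c⁻¹) := by group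
  have hw1' : c * w * c⁻¹ ≠ 1 := fun h1 => hw1 (conj_eq_one_iff.1 h1)
  have hg : c * g * c⁻¹ ∈ S := by
    apply h.conj_mem_of_commute hw hw1'
    calc c * g * c⁻¹ * (c * w * c⁻¹) = c * (g * w) * c⁻¹ := by group
      _ = c * (w * g) * c⁻¹ := by rw [hgw]
      _ = c * w * c⁻¹ * (c * g * c⁻¹) := by group
  have := h.comm _ hg _ hs
  calc g * u = c⁻¹ * (c * g * c⁻¹ * (c * u * c⁻¹)) * c := by group
    _ = c⁻¹ * (c * u * c⁻¹ * (c * g * c⁻¹)) * c := by rw [this]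
    _ = u * g := by group

theorem inv_of_sq_mem (h : Hyp S) (n : G) (hn : n ∈ Subgroup.normalizer (S : Set G)) (hnS : n ∉ S)
    (hn2 : n ^ 2 ∈ S) : ∀ s ∈ S, n * s * n⁻¹ = s⁻¹ := by
  intro s hs
  have hs' : n * s * n⁻¹ ∈ S := (Subgroup.mem_normalizer_iff.1 hn s).1 hs
  have hw : s * (n * s * n⁻¹) ∈ S := S.mul_mem hs hs'
  rw [pow_two] at hn2
  have hcomm : n * n * s = s * (n * n) := h.comm _ hn2 _ hs
  have hfix : n * (s * (n * s * n⁻¹)) = (s * (n * s * n⁻¹)) * n := by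
    have h1 : n * (n * s * n⁻¹) * n⁻¹ = s := by
      calc n * (n * s * n⁻¹) * n⁻¹ = (n * n * s) * (n * n)⁻¹ := by group
        _ = (s * (n * n)) * (n * n)⁻¹ := by rw [hcomm]
        _ = s := by group
    have h2 := h.comm _ hs' _ hs
    calc n * (s * (n * s * n⁻¹)) = (n * s * n⁻¹) * (n * (n * s * n⁻¹) * n⁻¹) * n := by group
      _ = (n * s * n⁻¹) * s * n := by rw [h1]
      _ = (s * (n * s * n⁻¹)) * n := by rw [h2]
  by_contra hne
  have hw1 : s * (n * s * n⁻¹) ≠ 1 := by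
    intro h1
    apply hne
    exact (eq_inv_of_mul_eq_one_right h1)
  exact hnS (h.conj_mem_of_commute hw hw1 hfix)

end Cfsg.Agent.Lib.H21.A6
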