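import Cfsg.Agent.Lib.H4.Feit.ClassCount
import Cfsg.Agent.Lib.H21.A6.Grp

/-!
# S3341: reduction to `|N : S| ∈ {2, 4}` (helper21)
-/

set_option autoImplicit false
set_option linter.unusedSectionVars false

namespace Cfsg.Agent.Lib.H21.A6

open Cfsg Cfsg.Agent.Lib.L0 Cfsg.Agent.Lib.L0.FrobTI Cfsg.Agent.Lib.H8 Cfsg.Agent.Lib.H4.Feit
open scoped Pointwise

variable {G : Type*} [Group G] [Finite G]

/-- every element with `g³ = 1` is conjugate into a given Sylow 3-subgroup -/
theorem exists_conj_mem (P : Sylow 3 G) (g : G) (hg : g ^ 3 = 1) :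
    ∃ c : G, c * g * c⁻¹ ∈ (P : Subgroup G) := by
  haveI : Fact (Nat.Prime 3) := ⟨Nat.prime_three⟩
  have hdvd : orderOf g ∣ 3 := orderOf_dvd_of_pow_eq_one hg
  have hz : IsPGroup 3 (Subgroup.zpowers g) := by
    rcases (Nat.dvd_prime Nat.prime_three).1 hdvd with h1 | h1
    · apply IsPGroup.of_card (n := 0)
      rw [Nat.card_zpowers, h1, pow_zero]
    · apply IsPGroup.of_card (n := 1)
      rw [Nat.card_zpowers, h1, pow_one]
  obtain ⟨Q, hQ⟩ := hz.exists_le_sylow
  obtain ⟨c, hc⟩ := MulAction.exists_smul_eq G Q P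
  refine ⟨c, ?_⟩
  have hxQ : g ∈ (Q : Subgroup G) := hQ (Subgroup.mem_zpowers g)
  have h1 : (c • Q : Sylow 3 G) = P := hc
  have h2 : ((c • Q : Sylow 3 G) : Subgroup G) = MulAut.conj c • (Q : Subgroup G) :=
    Sylow.pointwise_smul_def
  rw [← h1, h2]
  have := Subgroup.smul_mem_pointwise_smul g (MulAut.conj c) (Q : Subgroup G) hxQ
  rwa [MulAut.smul_def, MulAut.conj_apply] at this

theorem hyp_of (P : Sylow 3 G) (S : Subgroup G) (hSP : S = P) (hcomm : IsMulCommutative S)
    (hexp : ∀ a ∈ S, a ^ 3 = 1) (hcard : Nat.card S = 9)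
    (hcent : ∀ s ∈ S, s ≠ 1 → Subgroup.centralizer ({s} : Set G) = S) : Hyp S := by
  refine ⟨?_, hexp, hcard, hcent, ?_⟩
  · intro a ha b hb
    have := hcomm.is_comm.comm ⟨a, ha⟩ ⟨b, hb⟩
    exact congrArg Subtype.val this
  · intro g hg
    rw [hSP]
    exact exists_conj_mem P g hg

/-- if `|N : K| = |K| - 1` all non-identity elements of `K` are conjugate -/
theorem all_conj {K : Subgroup G} (h : FrobTI K) (hab : ∀ a ∈ K, ∀ b ∈ K, a * b = b * a)
    (hidx : (K.subgroupOf (nz K)).index + 1 = Nat.card K) (u v : G) (hu : u ∈ K) (hu1 : u ≠ 1)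
    (hv : v ∈ K) (hv1 : v ≠ 1) : IsConj u v := by
  classical
  have hmem : ∀ g : nz K, (g : G) * u * (g : G)⁻¹ ∈ K := fun g =>
    (Subgroup.mem_normalizer_iff.1 g.2 u).1 hu
  have hne : ∀ g : nz K, (⟨(g : G) * u * (g : G)⁻¹, hmem g⟩ : K) ≠ 1 := by
    intro g h1
    apply hu1
    have := congrArg Subtype.val h1
    exact conj_eq_one_iff.1 this
  have hwd : ∀ g g' : nz K, QuotientGroup.leftRel (K.subgroupOf (nz K)) g g' →
      (⟨⟨(g : G) * u * (g : G)⁻¹, hmem g⟩, hne g⟩ : {x : K // x ≠ 1}) =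
        ⟨⟨(g' : G) * u * (g' : G)⁻¹, hmem g'⟩, hne g'⟩ := by
    intro g g' hgg'
    rw [QuotientGroup.leftRel_apply, Subgroup.mem_subgroupOf] at hgg'
    apply Subtype.ext
    apply Subtype.ext
    set k := ((g⁻¹ * g' : nz K) : G) with hk
    have hg' : (g' : G) = (g : G) * k := by
      rw [hk]
      simp
    change (g : G) * u * (g : G)⁻¹ = (g' : G) * u * (g' : G)⁻¹
    rw [hg']
    have hcomm : k * u = u * k := hab k hgg' u hu
    calc (g : G) * u * (g : G)⁻¹ = (g : G) * (u * k * k⁻¹) * (g : G)⁻¹ := by group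
      _ = (g : G) * (k * u * k⁻¹) * (g : G)⁻¹ := by rw [hcomm]
      _ = (g : G) * k * u * ((g : G) * k)⁻¹ := by group
  let F : nz K ⧸ K.subgroupOf (nz K) → {x : K // x ≠ 1} :=
    Quotient.lift (fun g : nz K => (⟨⟨(g : G) * u * (g : G)⁻¹, hmem g⟩, hne g⟩ :
      {x : K // x ≠ 1})) hwd
  have hinj : Function.Injective F := by
    intro q₁ q₂
    refine Quotient.inductionOn₂ q₁ q₂ ?_
    intro g₁ g₂ hF
    have h1 : (g₁ : G) * u * (g₁ : G)⁻¹ = (g₂ : G) * u * (g₂ : G)⁻¹ := by
      have := congrArg (fun x : {x : K // x ≠ 1} => ((x : K) : G)) hF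
      exact this
    apply Quotient.sound
    refine QuotientGroup.leftRel_apply.2 ?_
    rw [Subgroup.mem_subgroupOf]
    apply h.hC u hu hu1
    rw [Subgroup.mem_centralizer_singleton_iff]
    simp only [Subgroup.coe_mul, Subgroup.coe_inv]
    calc (g₁ : G)⁻¹ * (g₂ : G) * u = (g₁ : G)⁻¹ * ((g₂ : G) * u * (g₂ : G)⁻¹) * (g₂ : G) := by group
      _ = (g₁ : G)⁻¹ * ((g₁ : G) * u * (g₁ : G)⁻¹) * (g₂ : G) := by rw [h1]
      _ = u * ((g₁ : G)⁻¹ * (g₂ : G)) := by group
  have hcard : Nat.card {x : K // x ≠ 1} ≤ Nat.card (nz K ⧸ K.subgroupOf (nz K)) := by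
    rw [← Subgroup.index_eq_card]
    haveI := Fintype.ofFinite K
    have h2 : Nat.card {x : K // x ≠ 1} + 1 = Nat.card K := by
      rw [Nat.card_eq_fintype_card, Nat.card_eq_fintype_card, Fintype.card_subtype_compl,
        Fintype.card_subtype_eq]
      have : 0 < Fintype.card K := Fintype.card_pos
      omega
    omega
  have hbij := hinj.bijective_of_nat_card_le hcard
  obtain ⟨q, hq⟩ := hbij.2 ⟨⟨v, hv⟩, fun h1 => hv1 (congrArg Subtype.val h1)⟩
  revert hq
  refine Quotient.inductionOn q ?_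
  intro g hq
  have h1 : (g : G) * u * (g : G)⁻¹ = v := by
    have := congrArg (fun x : {x : K // x ≠ 1} => ((x : K) : G)) hq
    exact this
  exact isConj_iff.2 ⟨g, h1⟩

/-- Burnside's transfer theorem: `N(P) = P` abelian is impossible in a simple group -/
theorem index_ne_one [IsSimpleGroup G] (P : Sylow 3 G)
    (hab : ∀ a ∈ (P : Subgroup G), ∀ b ∈ (P : Subgroup G), a * b = b * a)
    (hcard : Nat.card (P : Subgroup G) = 9) :
    ((P : Subgroup G).subgroupOf (Subgroup.normalizer ((P : Subgroup G) : Set G))).index ≠ 1 := by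
  haveI : Fact (Nat.Prime 3) := ⟨Nat.prime_three⟩
  intro h1
  rw [Subgroup.index_eq_one, Subgroup.subgroupOf_eq_top] at h1
  have hP : Subgroup.normalizer ((P : Subgroup G) : Set G) ≤
      Subgroup.centralizer ((P : Subgroup G) : Set G) := by
    intro g hg
    rw [Subgroup.mem_centralizer_iff]
    intro x hx
    exact hab x hx g (h1 hg)
  have hcomp := MonoidHom.ker_transferSylow_isComplement' P hP
  have hcm := hcomp.card_mul_card
  rcases (MonoidHom.normal_ker (MonoidHom.transferSylow P hP)).eq_bot_or_eq_top with hk | hk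
  · rw [hk, Subgroup.card_bot, one_mul] at hcm
    have htop : (P : Subgroup G) = ⊤ := (Subgroup.card_eq_iff_eq_top _).1 hcm
    have hcommG : ∀ a b : G, a * b = b * a := fun a b =>
      hab a (by rw [htop]; trivial) b (by rw [htop]; trivial)
    have h9 : Nat.card G = 9 := by rw [← hcm, hcard]
    obtain ⟨g, hg⟩ := exists_prime_orderOf_dvd_card' (G := G) 3 (by rw [h9]; norm_num)
    have hnorm : (Subgroup.zpowers g).Normal := by
      refine ⟨fun n hn c => ?_⟩
      have : c * n * c⁻¹ = n := by rw [hcommG c n]; group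
      rw [this]; exact hn
    rcases hnorm.eq_bot_or_eq_top with h2 | h2
    · rw [Subgroup.zpowers_eq_bot] at h2
      rw [h2, orderOf_one] at hg
      omega
    · have h3 : Nat.card (Subgroup.zpowers g) = 3 := by rw [Nat.card_zpowers, hg]
      rw [h2, Subgroup.card_top, h9] at h3
      omega
  · rw [hk, Subgroup.card_top] at hcm
    have hpos : 0 < Nat.card G := Nat.card_pos
    have : Nat.card G * Nat.card (P : Subgroup G) = Nat.card G * 1 := by rw [hcm, mul_one]
    have := Nat.eq_of_mul_eq_mul_left hpos this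
    omega

end Cfsg.Agent.Lib.H21.A6
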