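import Cfsg.Agent.Lib.H21.A6.AsmA
import Cfsg.Agent.Lib.H21.A6.Arith
import Cfsg.Agent.Lib.H21.A6.Count
import Cfsg.Agent.Lib.H21.A6.Red
import Cfsg.Agent.Lib.H24.BrauerP4

/-!
# S3341: assembly, part B (helper21): the common data
-/

set_option autoImplicit false
set_option linter.unusedSectionVars false

namespace Cfsg.Agent.Lib.H21.A6

open Cfsg Cfsg.Agent.Lib.L0 Cfsg.Agent.Lib.L0.FrobTI Cfsg.Agent.Lib.H8 Cfsg.Agent.Lib.H4.Feit
open scoped ComplexConjugate Classical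

section

variable {G : Type*} [Group G] [Fintype G] {S : Subgroup G}

/-- the fibre of `s ↦ s x s⁻¹` over `x` in `G` -/
theorem card_fix_G (h : Hyp S) (x : G) (hx : x ∈ S) (hx1 : x ≠ 1) :
    (Finset.univ.filter (fun s : G => s * x * s⁻¹ = x)).card = 9 := by
  have h1 : Finset.univ.filter (fun s : G => s * x * s⁻¹ = x) =
      Finset.univ.filter (fun s : G => s ∈ S) := by
    ext s
    simp only [Finset.mem_filter, Finset.mem_univ, true_and]
    rw [← h.cent x hx hx1, Subgroup.mem_centralizer_singleton_iff, mul_inv_eq_iff_eq_mul]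
  rw [h1, ← Fintype.card_subtype, ← Nat.card_eq_fintype_card]
  exact h.card

/-- the fibre of `s ↦ s x s⁻¹` over `x` in `N` -/
theorem card_fix_N [Fintype (nz S)] (h : Hyp S) (x : nz S) (hx : (x : G) ∈ S) (hx1 : x ≠ 1) :
    (Finset.univ.filter (fun s : nz S => s * x * s⁻¹ = x)).card = 9 := by
  have hx1' : (x : G) ≠ 1 := fun h1 => hx1 (Subtype.ext h1)
  have h1 : Finset.univ.filter (fun s : nz S => s * x * s⁻¹ = x) =
      Finset.univ.filter (fun s : nz S => s ∈ S.subgroupOf (nz S)) := by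
    ext s
    simp only [Finset.mem_filter, Finset.mem_univ, true_and]
    rw [Subgroup.mem_subgroupOf]
    have h2 : (s : G) ∈ S ↔ (s : G) * (x : G) = (x : G) * (s : G) := by
      rw [← Subgroup.mem_centralizer_singleton_iff, h.cent (x : G) hx hx1']
    rw [h2, mul_inv_eq_iff_eq_mul, Subtype.ext_iff]
    simp only [Subgroup.coe_mul]
  rw [h1, ← Fintype.card_subtype, ← Nat.card_eq_fintype_card]
  have := Nat.card_congr (Subgroup.subgroupOfEquivOfLe (Subgroup.le_normalizer (H := S))).toEquiv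
  rw [h.card] at this
  exact this

end

section common

variable {G : Type*} [Group G] [Fintype G] {K : Subgroup G} [Fintype (nz K)]

/-- the character-theoretic data, with the trivial character and the exceptional characters
split off -/
theorem common (h : FrobTI K) (hab : ∀ a ∈ K, ∀ b ∈ K, a * b = b * a)
    (ht : 2 ≤ Nat.card (RelT K)) [Fintype (IrrCharacter G)] [Fintype (RelT K)] :
    ∃ (εz c : ℤ) (X : ℕ) (b : IrrCharacter G → ℤ) (d : IrrCharacter G → ℕ)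
      (R₀ : Finset (IrrCharacter G)),
      (εz = 1 ∨ εz = -1) ∧ 0 < X ∧
      (∑ ψ ∈ R₀, b ψ ^ 2 = ((K.subgroupOf (nz K)).index : ℤ) - 1 + 2 * εz * c -
        (Fintype.card (RelT K) : ℤ) * c ^ 2) ∧
      (1 + ∑ ψ ∈ R₀, b ψ * (d ψ : ℤ) = εz * X - (Fintype.card (RelT K) : ℤ) * c * X) ∧
      (1 + ∑ ψ ∈ R₀, d ψ ^ 2 + Fintype.card (RelT K) * X ^ 2 = Nat.card G) ∧
      (∀ ψ ∈ R₀, (ψ : G → ℂ) ≠ 1 ∧ (ψ : G → ℂ) 1 = d ψ ∧
        ∃ m : ℤ, (d ψ : ℤ) = b ψ + m * (Nat.card K : ℤ)) ∧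
      (∃ m : ℤ, (X : ℤ) = c + εz * ((K.subgroupOf (nz K)).index : ℤ) + m * (Nat.card K : ℤ)) ∧
      (∀ x y u : nz K, (x : G) ∈ K → x ≠ 1 → (y : G) ∈ K → y ≠ 1 → (u : G) ∈ K → u ≠ 1 →
        ∑ ψ : IrrCharacter G, (ψ : G → ℂ) x * (ψ : G → ℂ) y * (ψ : G → ℂ) u / (ψ : G → ℂ) 1 =
          1 + ∑ ψ ∈ R₀, (b ψ : ℂ) ^ 3 / (d ψ : ℂ) +
          (∑ ζ : RelT K, ((c : ℂ) + (εz : ℂ) * (ζ.1 : nz K → ℂ) x) *
            ((c : ℂ) + (εz : ℂ) * (ζ.1 : nz K → ℂ) y) *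
            ((c : ℂ) + (εz : ℂ) * (ζ.1 : nz K → ℂ) u)) / (X : ℂ)) := by
  obtain ⟨εz, c, X, b, d, f, hεz, hinj, hd, hfX, hone, hsq, hdeg, hcong, hXcong, hv1, hv2⟩ :=
    Cfsg.Agent.Lib.H4.A6.exists_values h hab ht
  set ψ₀ : IrrCharacter G := ⟨1, Cfsg.Agent.Lib.L0.isIrrCharacter_one⟩ with hψ₀
  obtain ⟨hψ₀E, hbψ₀⟩ := hone ψ₀ rfl
  have hdψ₀ : d ψ₀ = 1 := by
    have := hd ψ₀
    have h1 : ((ψ₀ : IrrCharacter G) : G → ℂ) 1 = 1 := rfl
    rw [h1] at this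
    exact_mod_cast this.symm
  set E : Finset (IrrCharacter G) := Finset.univ.image f with hE
  have hψ₀R : ψ₀ ∈ Eᶜ := by
    rw [Finset.mem_compl, hE, Finset.mem_image]
    rintro ⟨ζ, -, hζ⟩
    exact hψ₀E ζ hζ
  have hnotE : ∀ ψ ∈ Eᶜ, ∀ ζ : RelT K, f ζ ≠ ψ := by
    intro ψ hψ ζ hζ
    rw [Finset.mem_compl, hE, Finset.mem_image] at hψ
    exact hψ ⟨ζ, Finset.mem_univ _, hζ⟩
  have hXpos : 0 < X := by
    have hne : Nonempty (RelT K) := by
      rw [← Finite.card_pos_iff]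
      omega
    obtain ⟨ζ₀⟩ := hne
    have h1 := hd (f ζ₀)
    rw [(hfX ζ₀).2] at h1
    have h2 := Cfsg.Agent.Lib.H24.irr_one_ne_zero (f ζ₀)
    rw [h1] at h2
    have : X ≠ 0 := by
      rintro rfl
      exact h2 (by simp)
    omega
  -- splitting sums over all irreducible characters
  have hsplit : ∀ {M : Type} [AddCommMonoid M] (g : IrrCharacter G → M),
      ∑ ψ, g ψ = ∑ ζ : RelT K, g (f ζ) + (g ψ₀ + ∑ ψ ∈ Eᶜ.erase ψ₀, g ψ) := by
    intro M _ g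
    rw [← Finset.sum_add_sum_compl E, hE, Finset.sum_image (fun a _ b _ hab => hinj hab),
      Finset.add_sum_erase _ _ hψ₀R]
  refine ⟨εz, c, X, b, d, Eᶜ.erase ψ₀, hεz, hXpos, ?_, ?_, ?_, ?_, hXcong, ?_⟩
  · have := hsplit (fun ψ => b ψ ^ 2)
    rw [hsq, hbψ₀] at this
    have h2 : ∑ ζ : RelT K, b (f ζ) ^ 2 = (Fintype.card (RelT K) : ℤ) * c ^ 2 := by
      rw [Finset.sum_congr rfl fun ζ _ => by rw [(hfX ζ).1], Finset.sum_const, Finset.card_univ]
      simp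
    rw [h2] at this
    linarith
  · have := hsplit (fun ψ => b ψ * (d ψ : ℤ))
    rw [hdeg, hbψ₀, hdψ₀] at this
    have h2 : ∑ ζ : RelT K, b (f ζ) * (d (f ζ) : ℤ) = (Fintype.card (RelT K) : ℤ) * c * X := by
      rw [Finset.sum_congr rfl fun ζ _ => by rw [(hfX ζ).1, (hfX ζ).2], Finset.sum_const,
        Finset.card_univ]
      simp
      ring
    rw [h2] at this
    push_cast at this
    linarith
  · have hall := Cfsg.Agent.Lib.H24.sum_irr_one_sq (G := G)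
    have h1 : ∑ ψ : IrrCharacter G, d ψ ^ 2 = Nat.card G := by
      have : ((∑ ψ : IrrCharacter G, d ψ ^ 2 : ℕ) : ℂ) = ((Nat.card G : ℕ) : ℂ) := by
        rw [← hall]
        push_cast
        refine Finset.sum_congr rfl fun ψ _ => ?_
        rw [hd]
      exact_mod_cast this
    have := hsplit (fun ψ => d ψ ^ 2)
    rw [h1, hdψ₀] at this
    have h2 : ∑ ζ : RelT K, d (f ζ) ^ 2 = Fintype.card (RelT K) * X ^ 2 := by
      rw [Finset.sum_congr rfl fun ζ _ => by rw [(hfX ζ).2], Finset.sum_const, Finset.card_univ]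
      simp
    rw [h2] at this
    omega
  · intro ψ hψ
    rw [Finset.mem_erase] at hψ
    refine ⟨?_, hd ψ, hcong ψ (hnotE ψ hψ.2)⟩
    intro h1
    apply hψ.1
    exact Subtype.ext h1
  · intro x y u hx hx1 hy hy1 hu hu1
    rw [gsum εz c X b d f hinj hd (fun ζ => (hfX ζ).2) hv1 hv2 x y u hx hx1 hy hy1 hu hu1,
      ← Finset.add_sum_erase _ _ hψ₀R, hbψ₀, hdψ₀]
    norm_num

end common

end Cfsg.Agent.Lib.H21.A6
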