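import Cfsg.Agent.Lib.H21.A6.AsmB

/-!
# S3341: assembly, part C (helper21): the case `|N : S| = 4` gives `|G| = 360`
-/

set_option autoImplicit false
set_option linter.unusedSectionVars false
set_option maxHeartbeats 1600000

namespace Cfsg.Agent.Lib.H21.A6

open Cfsg Cfsg.Agent.Lib.L0 Cfsg.Agent.Lib.L0.FrobTI Cfsg.Agent.Lib.H8 Cfsg.Agent.Lib.H4.Feit
open scoped ComplexConjugate Classical

theorem sum_filter_ne_zero' {ι : Type*} {M : Type*} [AddCommMonoid M] (R : Finset ι) (b : ι → ℤ)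
    (g : ι → M) (hg : ∀ i ∈ R, b i = 0 → g i = 0) :
    ∑ i ∈ R, g i = ∑ i ∈ R.filter (fun i => b i ≠ 0), g i := by
  symm
  apply Finset.sum_subset (Finset.filter_subset _ _)
  intro i hi hni
  apply hg i hi
  by_contra hne
  exact hni (Finset.mem_filter.2 ⟨hi, hne⟩)

/-- a non-principal irreducible character of a non-abelian simple group has degree at least 2 -/
theorem two_le_degree {G : Type*} [Group G] [Finite G] [IsSimpleGroup G]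
    (hnp : ¬ (Nat.card G).Prime) (ψ : IrrCharacter G) (hψ : (ψ : G → ℂ) ≠ 1) (d : ℕ)
    (hd : (ψ : G → ℂ) 1 = d) : 2 ≤ d := by
  have h0 : d ≠ 0 := by
    rintro rfl
    exact Cfsg.Agent.Lib.H24.irr_one_ne_zero ψ (by rw [hd]; simp)
  have h1 : d ≠ 1 := by
    rintro rfl
    apply hψ
    exact Cfsg.Agent.Lib.H24.BrP.linear_eq_one_of_perfect
      (Cfsg.Agent.Lib.H24.BrP.commutator_eq_top_of_simple hnp) _ ψ.2 (by rw [hd]; simp)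
  omega

theorem card_e4 {G : Type*} [Group G] [Finite G] [IsSimpleGroup G] {S : Subgroup G} (h : Hyp S)
    (he : (S.subgroupOf (Subgroup.normalizer (S : Set G))).index = 4)
    (x n : G) (hx : x ∈ S) (hn : n ∈ Subgroup.normalizer (S : Set G)) (hx1 : x ≠ 1)
    (hz1 : x * (n * x * n⁻¹) ≠ 1) (hyx : n * x * n⁻¹ ≠ x)
    (hiff : ∀ s t : G, (s * x * s⁻¹) * (t * x * t⁻¹) = x * (n * x * n⁻¹) ↔
        (s * x * s⁻¹ = x ∧ t * x * t⁻¹ = n * x * n⁻¹) ∨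
        (s * x * s⁻¹ = n * x * n⁻¹ ∧ t * x * t⁻¹ = x)) :
    Nat.card G = 360 := by
  haveI : Fintype G := Fintype.ofFinite G
  haveI : Fintype (nz S) := Fintype.ofFinite _
  haveI : Fintype (RelT S) := Fintype.ofFinite _
  haveI : Fintype (IrrCharacter G) := by
    haveI : Finite (IrrCharacter G) := Cfsg.Agent.Lib.H24.finite_irr
    exact Fintype.ofFinite _
  have hF := frobTI h
  have hab := h.comm
  have hK := card_K_eq hF hab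
  rw [h.card, Nat.card_eq_fintype_card (α := RelT S)] at hK
  change Fintype.card (RelT S) * (S.subgroupOf (Subgroup.normalizer (S : Set G))).index + 1 = 9 at hK
  rw [he] at hK
  have ht2 : Fintype.card (RelT S) = 2 := by omega
  have ht : 2 ≤ Nat.card (RelT S) := by rw [Nat.card_eq_fintype_card, ht2]
  have hnp : ¬ (Nat.card G).Prime := by
    intro hp
    have h9 : 9 ∣ Nat.card G := by
      rw [← h.card]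
      exact Subgroup.card_subgroup_dvd_card S
    have := (Nat.dvd_prime hp).1 h9
    have h3 : (3 : ℕ) ∣ Nat.card G := (by norm_num : (3 : ℕ) ∣ 9).trans h9
    have := (Nat.dvd_prime hp).1 h3
    omega
  obtain ⟨εz, c, X, b, d, R₀, hεz, hXpos, hS1, hS2, hS3, hS5, hXc, hS4⟩ := common hF hab ht
  change (∑ ψ ∈ R₀, b ψ ^ 2 = ((S.subgroupOf (Subgroup.normalizer (S : Set G))).index : ℤ) - 1 +
    2 * εz * c - (Fintype.card (RelT S) : ℤ) * c ^ 2) at hS1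
  rw [he, ht2] at hS1
  rw [ht2] at hS2 hS3
  change (∃ m : ℤ, (X : ℤ) = c + εz * ((S.subgroupOf (Subgroup.normalizer (S : Set G))).index : ℤ) +
    m * (Nat.card S : ℤ)) at hXc
  rw [he, h.card] at hXc
  push_cast at hS1 hS2 hXc
  -- `c ∈ {0, ε}`
  have hnn : 0 ≤ ∑ ψ ∈ R₀, b ψ ^ 2 := Finset.sum_nonneg fun ψ _ => sq_nonneg (b ψ)
  have hc : c = 0 ∨ c = εz := by
    rw [hS1] at hnn
    rcases hεz with rfl | rfl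
    · have h1 : c ≤ 1 := by nlinarith
      have h2 : 0 ≤ c := by nlinarith
      omega
    · have h1 : -1 ≤ c := by nlinarith
      have h2 : c ≤ 0 := by nlinarith
      omega
  have hsq3 : ∑ ψ ∈ R₀, b ψ ^ 2 = ((3 : ℕ) : ℤ) := by
    rw [hS1]
    rcases hc with rfl | rfl
    · norm_num
    · rcases hεz with rfl | rfl <;> norm_num
  obtain ⟨hb01, hcard3⟩ := sq_sum_small R₀ b 3 le_rfl hsq3
  obtain ⟨ψ₁, ψ₂, ψ₃, h12, h13, h23, hT⟩ := Finset.card_eq_three.1 hcard3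
  have hmemT : ∀ ψ, ψ ∈ R₀.filter (fun i => b i ≠ 0) ↔ ψ = ψ₁ ∨ ψ = ψ₂ ∨ ψ = ψ₃ := by
    intro ψ
    rw [hT]
    simp
  have hm₁ := (Finset.mem_filter.1 ((hmemT ψ₁).2 (Or.inl rfl)))
  have hm₂ := (Finset.mem_filter.1 ((hmemT ψ₂).2 (Or.inr (Or.inl rfl))))
  have hm₃ := (Finset.mem_filter.1 ((hmemT ψ₃).2 (Or.inr (Or.inr rfl))))
  have hsum3 : ∀ {M : Type} [AddCommMonoid M] (g : IrrCharacter G → M),
      (∀ i ∈ R₀, b i = 0 → g i = 0) → ∑ ψ ∈ R₀, g ψ = g ψ₁ + (g ψ₂ + g ψ₃) := by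
    intro M _ g hg
    rw [sum_filter_ne_zero' R₀ b g hg, hT, Finset.sum_insert (by simp [h12, h13]),
      Finset.sum_insert (by simp [h23]), Finset.sum_singleton]
  have hδ : ∀ ψ ∈ R₀, b ψ ≠ 0 → b ψ = 1 ∨ b ψ = -1 := by
    intro ψ hψ hne
    rcases hb01 ψ hψ with h1 | h1
    · exact absurd h1 hne
    · exact h1
  have hδ₁ := hδ ψ₁ hm₁.1 hm₁.2
  have hδ₂ := hδ ψ₂ hm₂.1 hm₂.2
  have hδ₃ := hδ ψ₃ hm₃.1 hm₃.2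
  obtain ⟨hne₁, hd₁, m₁, hm₁'⟩ := hS5 ψ₁ hm₁.1
  obtain ⟨hne₂, hd₂, m₂, hm₂'⟩ := hS5 ψ₂ hm₂.1
  obtain ⟨hne₃, hd₃, m₃, hm₃'⟩ := hS5 ψ₃ hm₃.1
  rw [h.card] at hm₁' hm₂' hm₃'
  push_cast at hm₁' hm₂' hm₃'
  have h2₁ := two_le_degree hnp ψ₁ hne₁ (d ψ₁) hd₁
  have h2₂ := two_le_degree hnp ψ₂ hne₂ (d ψ₂) hd₂
  have h2₃ := two_le_degree hnp ψ₃ hne₃ (d ψ₃) hd₃
  -- the three sums
  have hA := hsum3 (fun ψ => b ψ * (d ψ : ℤ)) (fun i _ hi => by simp [hi])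
  have hB : d ψ₁ ^ 2 + (d ψ₂ ^ 2 + d ψ₃ ^ 2) ≤ ∑ ψ ∈ R₀, d ψ ^ 2 := by
    calc d ψ₁ ^ 2 + (d ψ₂ ^ 2 + d ψ₃ ^ 2) = ∑ ψ ∈ R₀.filter (fun i => b i ≠ 0), d ψ ^ 2 := by
          rw [hT, Finset.sum_insert (by simp [h12, h13]), Finset.sum_insert (by simp [h23]),
            Finset.sum_singleton]
      _ ≤ ∑ ψ ∈ R₀, d ψ ^ 2 := Finset.sum_le_sum_of_subset (Finset.filter_subset _ _)
  have hC := hsum3 (fun ψ => (b ψ : ℂ) ^ 3 / (d ψ : ℂ)) (fun i _ hi => by simp [hi])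
  -- the elements
  have hxN : x ∈ nz S := Subgroup.le_normalizer hx
  have hyS : n * x * n⁻¹ ∈ S := (Subgroup.mem_normalizer_iff.1 hn x).1 hx
  have hzS : x * (n * x * n⁻¹) ∈ S := S.mul_mem hx hyS
  have hx1' : (⟨x, hxN⟩ : nz S) ≠ 1 := fun h1 => hx1 (congrArg Subtype.val h1)
  have hyx' : (⟨n, hn⟩ : nz S) * ⟨x, hxN⟩ * (⟨n, hn⟩ : nz S)⁻¹ ≠ ⟨x, hxN⟩ :=
    fun h1 => hyx (congrArg Subtype.val h1)
  have hu1' : ((⟨x, hxN⟩ : nz S) * ((⟨n, hn⟩ : nz S) * ⟨x, hxN⟩ * (⟨n, hn⟩ : nz S)⁻¹))⁻¹ ≠ 1 := by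
    intro h1
    apply hz1
    have := congrArg Subtype.val (inv_eq_one.1 h1)
    exact this
  have huS : ((((⟨x, hxN⟩ : nz S) * ((⟨n, hn⟩ : nz S) * ⟨x, hxN⟩ * (⟨n, hn⟩ : nz S)⁻¹))⁻¹ : nz S) : G)
      ∈ S := by
    have : ((((⟨x, hxN⟩ : nz S) * ((⟨n, hn⟩ : nz S) * ⟨x, hxN⟩ * (⟨n, hn⟩ : nz S)⁻¹))⁻¹ : nz S) : G)
        = (x * (n * x * n⁻¹))⁻¹ := rfl
    rw [this]
    exact S.inv_mem hzS
  have hzS' : ((((⟨x, hxN⟩ : nz S) * ((⟨n, hn⟩ : nz S) * ⟨x, hxN⟩ * (⟨n, hn⟩ : nz S)⁻¹)) : nz S) : G)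
      ∈ S := hzS
  -- the count in `G`
  have hG1 := count_two x (n * x * n⁻¹) (x * (n * x * n⁻¹)) n rfl hyx 9
    (card_fix_G h x hx hx1) hiff
  have hG2 := Cfsg.Agent.Lib.H23.sum_sum_ite_conj_mul_eq x x (x * (n * x * n⁻¹))
  have hG3 := hS4 ⟨x, hxN⟩ ⟨x, hxN⟩
    ((⟨x, hxN⟩ : nz S) * ((⟨n, hn⟩ : nz S) * ⟨x, hxN⟩ * (⟨n, hn⟩ : nz S)⁻¹))⁻¹
    hx hx1' hx hx1' huS hu1'
  -- the count in `N`
  have hiff' : ∀ s t : nz S, (s * ⟨x, hxN⟩ * s⁻¹) * (t * ⟨x, hxN⟩ * t⁻¹) =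
      (⟨x, hxN⟩ : nz S) * ((⟨n, hn⟩ : nz S) * ⟨x, hxN⟩ * (⟨n, hn⟩ : nz S)⁻¹) ↔
      (s * ⟨x, hxN⟩ * s⁻¹ = ⟨x, hxN⟩ ∧
        t * ⟨x, hxN⟩ * t⁻¹ = (⟨n, hn⟩ : nz S) * ⟨x, hxN⟩ * (⟨n, hn⟩ : nz S)⁻¹) ∨
      (s * ⟨x, hxN⟩ * s⁻¹ = (⟨n, hn⟩ : nz S) * ⟨x, hxN⟩ * (⟨n, hn⟩ : nz S)⁻¹ ∧
        t * ⟨x, hxN⟩ * t⁻¹ = ⟨x, hxN⟩) := by
    intro s t
    have := hiff (s : G) (t : G)
    simp only [Subtype.ext_iff, Subgroup.coe_mul, Subgroup.coe_inv]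
    exact this
  have hN1 := count_two (⟨x, hxN⟩ : nz S) ((⟨n, hn⟩ : nz S) * ⟨x, hxN⟩ * (⟨n, hn⟩ : nz S)⁻¹)
    ((⟨x, hxN⟩ : nz S) * ((⟨n, hn⟩ : nz S) * ⟨x, hxN⟩ * (⟨n, hn⟩ : nz S)⁻¹)) ⟨n, hn⟩ rfl hyx' 9
    (card_fix_N h ⟨x, hxN⟩ hx hx1') hiff'
  have hN2 := nsum hF hab (⟨x, hxN⟩ : nz S) ⟨x, hxN⟩
    ((⟨x, hxN⟩ : nz S) * ((⟨n, hn⟩ : nz S) * ⟨x, hxN⟩ * (⟨n, hn⟩ : nz S)⁻¹)) hx hx hzS'
  clear hiff hiff' hS4 hS5 hb01 hδ hsum3 hmemT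
  have hNcard : (Nat.card (nz S) : ℂ) = 36 := by
    have h1 : Nat.card (nz S) = (S.subgroupOf (nz S)).index * Nat.card S := card_nz_eq S
    have h2 : (S.subgroupOf (nz S)).index = 4 := he
    rw [h1, h2, h.card]
    norm_num
  have he' : (((S.subgroupOf (nz S)).index : ℕ) : ℂ) = 4 := by
    have h2 : (S.subgroupOf (nz S)).index = 4 := he
    rw [h2]
    norm_num
  set Z : ℂ := ∑ ζ : RelT S, (ζ.1 : nz S → ℂ) ⟨x, hxN⟩ * (ζ.1 : nz S → ℂ) ⟨x, hxN⟩ *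
    (ζ.1 : nz S → ℂ) ((⟨x, hxN⟩ : nz S) * ((⟨n, hn⟩ : nz S) * ⟨x, hxN⟩ * (⟨n, hn⟩ : nz S)⁻¹))⁻¹
    with hZdef
  have hZ : Z = 2 := by
    have h36 := hN1.symm.trans hN2
    rw [hNcard, he'] at h36
    push_cast at h36
    linear_combination (-1 / 9 : ℂ) * h36
  -- the exceptional part
  have hW : (∑ ζ : RelT S, ((c : ℂ) + (εz : ℂ) * (ζ.1 : nz S → ℂ) ⟨x, hxN⟩) *
      ((c : ℂ) + (εz : ℂ) * (ζ.1 : nz S → ℂ) ⟨x, hxN⟩) *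
      ((c : ℂ) + (εz : ℂ) * (ζ.1 : nz S → ℂ)
        ((⟨x, hxN⟩ : nz S) * ((⟨n, hn⟩ : nz S) * ⟨x, hxN⟩ * (⟨n, hn⟩ : nz S)⁻¹))⁻¹)) =
      (((εz - 2 * c : ℤ)) : ℂ) * Z := by
    rcases hc with rfl | rfl
    · rw [wsum_zero εz hεz, hZdef]
      push_cast
      ring
    · rw [wsum_eps hF hab ht2 c hεz _ _ _ hx hx1' hx hx1' huS hu1', hZdef]
      push_cast
      ring
  have hb3 : ∀ z : ℤ, (z = 1 ∨ z = -1) → ((z : ℂ)) ^ 3 = z := by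
    intro z hz
    rcases hz with rfl | rfl <;> norm_num
  have hfin : (162 : ℂ) = (Nat.card G : ℂ) * (1 + ((b ψ₁ : ℂ) / (d ψ₁ : ℂ) +
      ((b ψ₂ : ℂ) / (d ψ₂ : ℂ) + (b ψ₃ : ℂ) / (d ψ₃ : ℂ))) +
      (((εz - 2 * c : ℤ)) : ℂ) * 2 / (X : ℂ)) := by
    have h1 := hG1.symm.trans hG2
    have hG4 : ∑ χ : IrrCharacter G, (χ : G → ℂ) x * (χ : G → ℂ) x *
        (χ : G → ℂ) (x * (n * x * n⁻¹))⁻¹ / (χ : G → ℂ) 1 = _ := hG3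
    rw [hG4, hW, hC, hZ, hb3 _ hδ₁, hb3 _ hδ₂, hb3 _ hδ₃] at h1
    rw [← h1]
    norm_num
  have hq : (162 : ℚ) = (Nat.card G : ℚ) * (1 + (b ψ₁ : ℚ) / (d ψ₁ : ℚ) + (b ψ₂ : ℚ) / (d ψ₂ : ℚ) +
      (b ψ₃ : ℚ) / (d ψ₃ : ℚ) + 2 * ((εz - 2 * c : ℤ) : ℚ) / (X : ℚ)) := by
    have : ((162 : ℚ) : ℂ) = (((Nat.card G : ℚ) * (1 + (b ψ₁ : ℚ) / (d ψ₁ : ℚ) +
        (b ψ₂ : ℚ) / (d ψ₂ : ℚ) + (b ψ₃ : ℚ) / (d ψ₃ : ℚ) +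
        2 * ((εz - 2 * c : ℤ) : ℚ) / (X : ℚ)) : ℚ) : ℂ) := by
      push_cast
      rw [hfin]
      push_cast
      ring
    exact_mod_cast this
  have hεf : εz - 2 * c = 1 ∨ εz - 2 * c = -1 := by
    rcases hc with rfl | rfl <;> rcases hεz with rfl | rfl <;> norm_num
  obtain ⟨mX, hmX⟩ := hXc
  refine arith4 (Nat.card G) (d ψ₁) (d ψ₂) (d ψ₃) X (b ψ₁) (b ψ₂) (b ψ₃) (εz - 2 * c)
    hδ₁ hδ₂ hδ₃ hεf ⟨m₁, by linarith⟩ ⟨m₂, by linarith⟩ ⟨m₃, by linarith⟩ h2₁ h2₂ h2₃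
    ⟨mX + c, by linarith⟩ hXpos ?_ hq ?_
  · rw [hA] at hS2
    linarith
  · have := hS3
    omega

end Cfsg.Agent.Lib.H21.A6
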