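import Cfsg.Agent.Lib.H21.A6.AsmC

/-!
# S3341: assembly, part D (helper21): the case `|N : S| = 2` is impossible
-/

set_option autoImplicit false
set_option linter.unusedSectionVars false
set_option maxHeartbeats 1600000

namespace Cfsg.Agent.Lib.H21.A6

open Cfsg Cfsg.Agent.Lib.L0 Cfsg.Agent.Lib.L0.FrobTI Cfsg.Agent.Lib.H8 Cfsg.Agent.Lib.H4.Feit
open scoped ComplexConjugate Classical

theorem no_e2 {G : Type*} [Group G] [Finite G] [IsSimpleGroup G] {S : Subgroup G} (h : Hyp S)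
    (he : (S.subgroupOf (Subgroup.normalizer (S : Set G))).index = 2)
    (a b₀ : G) (ha : a ∈ S) (hb₀ : b₀ ∈ S) (ha1 : a ≠ 1) (hb₀1 : b₀ ≠ 1)
    (hno : ∀ s t : G, (s * a * s⁻¹) * (t * a * t⁻¹) ≠ b₀) : False := by
  haveI : Fintype G := Fintype.ofFinite G
  haveI : Fintype (nz S) := Fintype.ofFinite _
  haveI : Fintype (RelT S) := Fintype.ofFinite _
  haveI : Fintype (IrrCharacter G) := by
    haveI : Finite (IrrCharacter G) := Cfsg.Agent.Lib.H24.finite_irr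
    exact Fintype.ofFinite _
  have hF := frobTI h
  have hab := h.comm
  have hK := card_K_eq hF hab
  rw [h.card, Nat.card_eq_fintype_card (α := RelT S)] at hK
  change Fintype.card (RelT S) * (S.subgroupOf (Subgroup.normalizer (S : Set G))).index + 1 = 9 at hK
  rw [he] at hK
  have ht4 : Fintype.card (RelT S) = 4 := by omega
  have ht : 2 ≤ Nat.card (RelT S) := by rw [Nat.card_eq_fintype_card, ht4]; norm_num
  have hnp : ¬ (Nat.card G).Prime := by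
    intro hp
    have h9 : 9 ∣ Nat.card G := by
      rw [← h.card]
      exact Subgroup.card_subgroup_dvd_card S
    have := (Nat.dvd_prime hp).1 h9
    have h3 : (3 : ℕ) ∣ Nat.card G := (by norm_num : (3 : ℕ) ∣ 9).trans h9
    have := (Nat.dvd_prime hp).1 h3
    omega
  obtain ⟨εz, c, X, b, d, R₀, hεz, hXpos, hS1, hS2, hS3, hS5, hXc, hS4⟩ := common hF hab ht
  change (∑ ψ ∈ R₀, b ψ ^ 2 = ((S.subgroupOf (Subgroup.normalizer (S : Set G))).index : ℤ) - 1 +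
    2 * εz * c - (Fintype.card (RelT S) : ℤ) * c ^ 2) at hS1
  rw [he, ht4] at hS1
  rw [ht4] at hS2
  push_cast at hS1 hS2
  have hnn : 0 ≤ ∑ ψ ∈ R₀, b ψ ^ 2 := Finset.sum_nonneg fun ψ _ => sq_nonneg (b ψ)
  have hc : c = 0 := by
    rw [hS1] at hnn
    rcases hεz with rfl | rfl
    · have h1 : c ≤ 0 := by nlinarith
      have h2 : 0 ≤ c := by nlinarith
      omega
    · have h1 : 0 ≤ c := by nlinarith
      have h2 : c ≤ 0 := by nlinarith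
      omega
  subst hc
  have hsq1 : ∑ ψ ∈ R₀, b ψ ^ 2 = ((1 : ℕ) : ℤ) := by
    rw [hS1]
    norm_num
  obtain ⟨hb01, hcard1⟩ := sq_sum_small R₀ b 1 (by norm_num) hsq1
  obtain ⟨ψ₁, hT⟩ := Finset.card_eq_one.1 hcard1
  have hm₁ : ψ₁ ∈ R₀ ∧ b ψ₁ ≠ 0 := by
    have : ψ₁ ∈ R₀.filter (fun i => b i ≠ 0) := by rw [hT]; exact Finset.mem_singleton_self _
    exact Finset.mem_filter.1 this
  have hsum1 : ∀ {M : Type} [AddCommMonoid M] (g : IrrCharacter G → M),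
      (∀ i ∈ R₀, b i = 0 → g i = 0) → ∑ ψ ∈ R₀, g ψ = g ψ₁ := by
    intro M _ g hg
    rw [sum_filter_ne_zero' R₀ b g hg, hT, Finset.sum_singleton]
  have hδ₁ : b ψ₁ = 1 ∨ b ψ₁ = -1 := by
    rcases hb01 ψ₁ hm₁.1 with h1 | h1
    · exact absurd h1 hm₁.2
    · exact h1
  obtain ⟨hne₁, hd₁, -⟩ := hS5 ψ₁ hm₁.1
  have h2₁ := two_le_degree hnp ψ₁ hne₁ (d ψ₁) hd₁
  have hA := hsum1 (fun ψ => b ψ * (d ψ : ℤ)) (fun i _ hi => by simp [hi])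
  have hC := hsum1 (fun ψ => (b ψ : ℂ) ^ 3 / (d ψ : ℂ)) (fun i _ hi => by simp [hi])
  -- the elements
  have haN : a ∈ nz S := Subgroup.le_normalizer ha
  have hbN : b₀ ∈ nz S := Subgroup.le_normalizer hb₀
  have ha1' : (⟨a, haN⟩ : nz S) ≠ 1 := fun h1 => ha1 (congrArg Subtype.val h1)
  have hu1' : (⟨b₀, hbN⟩ : nz S)⁻¹ ≠ 1 := by
    intro h1
    apply hb₀1
    exact congrArg Subtype.val (inv_eq_one.1 h1)
  have huS : (((⟨b₀, hbN⟩ : nz S)⁻¹ : nz S) : G) ∈ S := by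
    have : (((⟨b₀, hbN⟩ : nz S)⁻¹ : nz S) : G) = b₀⁻¹ := rfl
    rw [this]
    exact S.inv_mem hb₀
  -- the count in `G`
  have hG1 := count_zero a b₀ hno
  have hG2 := Cfsg.Agent.Lib.H23.sum_sum_ite_conj_mul_eq a a b₀
  have hG3 := hS4 ⟨a, haN⟩ ⟨a, haN⟩ (⟨b₀, hbN⟩ : nz S)⁻¹ ha ha1' ha ha1' huS hu1'
  -- the count in `N`
  have hno' : ∀ s t : nz S, (s * ⟨a, haN⟩ * s⁻¹) * (t * ⟨a, haN⟩ * t⁻¹) ≠ (⟨b₀, hbN⟩ : nz S) := by
    intro s t h1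
    exact hno (s : G) (t : G) (congrArg Subtype.val h1)
  have hN1 := count_zero (⟨a, haN⟩ : nz S) ⟨b₀, hbN⟩ hno'
  have hN2 := nsum hF hab (⟨a, haN⟩ : nz S) ⟨a, haN⟩ ⟨b₀, hbN⟩ ha ha hb₀
  clear hno hno' hS4 hS5 hb01 hsum1
  have hNcard : (Nat.card (nz S) : ℂ) = 18 := by
    have h1 : Nat.card (nz S) = (S.subgroupOf (nz S)).index * Nat.card S := card_nz_eq S
    have h2 : (S.subgroupOf (nz S)).index = 2 := he
    rw [h1, h2, h.card]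
    norm_num
  have he' : (((S.subgroupOf (nz S)).index : ℕ) : ℂ) = 2 := by
    have h2 : (S.subgroupOf (nz S)).index = 2 := he
    rw [h2]
    norm_num
  set Z : ℂ := ∑ ζ : RelT S, (ζ.1 : nz S → ℂ) ⟨a, haN⟩ * (ζ.1 : nz S → ℂ) ⟨a, haN⟩ *
    (ζ.1 : nz S → ℂ) (⟨b₀, hbN⟩ : nz S)⁻¹ with hZdef
  have hZ : Z = -4 := by
    have h36 := hN1.symm.trans hN2
    rw [hNcard, he'] at h36
    linear_combination (-1 / 9 : ℂ) * h36
  have hW : (∑ ζ : RelT S, ((((0 : ℤ)) : ℂ) + (εz : ℂ) * (ζ.1 : nz S → ℂ) ⟨a, haN⟩) *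
      ((((0 : ℤ)) : ℂ) + (εz : ℂ) * (ζ.1 : nz S → ℂ) ⟨a, haN⟩) *
      ((((0 : ℤ)) : ℂ) + (εz : ℂ) * (ζ.1 : nz S → ℂ) (⟨b₀, hbN⟩ : nz S)⁻¹)) = (εz : ℂ) * Z := by
    rw [wsum_zero εz hεz, hZdef]
  have hb3 : ∀ z : ℤ, (z = 1 ∨ z = -1) → ((z : ℂ)) ^ 3 = z := by
    intro z hz
    rcases hz with rfl | rfl <;> norm_num
  have hGne : (Nat.card G : ℂ) ≠ 0 := by exact_mod_cast (Nat.card_pos (α := G)).ne'
  have hfin : (0 : ℂ) = 1 + (b ψ₁ : ℂ) / (d ψ₁ : ℂ) - 4 * (εz : ℂ) / (X : ℂ) := by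
    have h1 := hG1.symm.trans hG2
    have hG4 : ∑ χ : IrrCharacter G, (χ : G → ℂ) a * (χ : G → ℂ) a *
        (χ : G → ℂ) b₀⁻¹ / (χ : G → ℂ) 1 = _ := hG3
    rw [hG4, hW, hC, hZ, hb3 _ hδ₁] at h1
    have h2 := (mul_eq_zero.1 h1.symm).resolve_left hGne
    rw [← h2]
    ring
  have hq : (0 : ℚ) = 1 + (b ψ₁ : ℚ) / (d ψ₁ : ℚ) - 4 * (εz : ℚ) / (X : ℚ) := by
    have : ((0 : ℚ) : ℂ) = ((1 + (b ψ₁ : ℚ) / (d ψ₁ : ℚ) - 4 * (εz : ℚ) / (X : ℚ) : ℚ) : ℂ) := by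
      push_cast
      exact hfin
    exact_mod_cast this
  have hdeg : 1 + b ψ₁ * (d ψ₁ : ℤ) = εz * X := by
    rw [hA] at hS2
    linarith
  have := arith2 (d ψ₁) X (b ψ₁) εz hδ₁ hεz (by omega) hXpos hdeg hq
  omega

end Cfsg.Agent.Lib.H21.A6
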